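import Cfsg.Agent.H38.CS.U6
import Cfsg.Agent.H406.CS.Extra
import Cfsg.Agent.H972.CS.MainTwo
import Cfsg.Agent.H795.Tw

/-!
# S5745: no elements of order 3 of type `D₅T₁` in `E₆(4)`, `²E₆(2)` (helper554)

`f : Q → ℤ/3` with exactly 20 positive roots in the kernel is `W`-conjugate to `± e₁*`, `± e₆*` (`exists_base`); then
`f u6 ≠ 0`, and `w = 1` is the only `w ∈ W` with `f ∘ w = f` preserving the positive roots of `ker f`.
* `ncard_ne` : in the simple group `E₆(4)`;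
* `ncard_ne_tw` : in `²E₆(2)`.
-/

set_option autoImplicit false
set_option linter.unusedSectionVars false

namespace Cfsg.Agent.H554.CS

open CoxeterSystem Cfsg Cfsg.Lie Cfsg.Lie.ChevalleyDatum
open Cfsg.Agent.ChevalleyStructure Cfsg.Agent.ChevalleyStructure.Elts Cfsg.Agent.ChevalleyStructure.CoxeterGeom
  Cfsg.Agent.ChevalleyStructure.CoxeterGeomTypes Cfsg.Agent.ChevalleyStructure.NPerm
open Cfsg.Agent.Tits.Roots Cfsg.Agent.Tits.Core Cfsg.Agent.Nodes Cfsg.Agent.Nodes.Reps Cfsg.Agent.Nodes.BNOf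
  Cfsg.Agent.Nodes.RGDChev
open Cfsg.Agent.KFacts.RgdField Cfsg.Agent.KFacts.RgdChevCoord
open Cfsg.Agent.BpExc Cfsg.Agent.BpExc.TorCent Cfsg.Agent.BpExc.TorChev Cfsg.Agent.BpExc.Tow
  Cfsg.Agent.BpExc.TowChev Cfsg.Agent.BpExc.Fr Cfsg.Agent.BpExc.Pair Cfsg.Agent.BpExc.LangFr Cfsg.Agent.GpExc.Field
  Cfsg.Agent.BpExc.NInst Cfsg.Agent.BpExc.NChev Cfsg.Agent.H129.TorusChar Cfsg.Agent.H129.TorusMain
  Cfsg.Agent.H129.TorusUntw Cfsg.Agent.H972.CS Cfsg.Agent.H972.CS.Count Cfsg.Agent.H972.CS.Torus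
  Cfsg.Agent.H972.CS.Main Cfsg.Agent.H38.CS Cfsg.Agent.H406.CS
open Cfsg.Agent.ChevalleyStructure.RootVec

universe u v

/-- the scalar product -/
def dt : List ℤ → List ℤ → ℤ
  | a :: x, b :: y => a * b + dt x y
  | _, _ => 0

/-- the coordinates of a root -/
def cv (r : ℕ) : List ℤ := (List.range 6).map fun i => rt chevE6 r i

/-- the digits -/
def dg (m : ℕ) : List ℤ := (List.range 6).map fun i => ((m / 3 ^ i % 3 : ℕ) : ℤ)

/-- the positive roots -/
def PR : List (List ℤ) :=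
  [[0, 0, 0, 0, 0, 1], [0, 0, 0, 0, 1, 0], [0, 0, 0, 0, 1, 1], [0, 0, 0, 1, 0, 0], [0, 0, 0, 1, 1, 0], [0, 0, 0,
  1, 1, 1], [0, 0, 1, 0, 0, 0], [0, 0, 1, 1, 0, 0], [0, 0, 1, 1, 1, 0], [0, 0, 1, 1, 1, 1], [0, 1, 0, 0, 0, 0],
  [0, 1, 0, 1, 0, 0], [0, 1, 0, 1, 1, 0], [0, 1, 0, 1, 1, 1], [0, 1, 1, 1, 0, 0], [0, 1, 1, 1, 1, 0], [0, 1, 1,
  1, 1, 1], [0, 1, 1, 2, 1, 0], [0, 1, 1, 2, 1, 1], [0, 1, 1, 2, 2, 1], [1, 0, 0, 0, 0, 0], [1, 0, 1, 0, 0, 0],
  [1, 0, 1, 1, 0, 0], [1, 0, 1, 1, 1, 0], [1, 0, 1, 1, 1, 1], [1, 1, 1, 1, 0, 0], [1, 1, 1, 1, 1, 0], [1, 1, 1,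
  1, 1, 1], [1, 1, 1, 2, 1, 0], [1, 1, 1, 2, 1, 1], [1, 1, 1, 2, 2, 1], [1, 1, 2, 2, 1, 0], [1, 1, 2, 2, 1, 1],
  [1, 1, 2, 2, 2, 1], [1, 1, 2, 3, 2, 1], [1, 2, 2, 3, 2, 1]]

/-- the functionals with 20 positive roots in the kernel: `(m, j, n)`, `s_j m` is the `n`-th entry -/
def TB : List (ℕ × ℕ × ℕ) :=
  [(1, 0, 0), (2, 0, 0), (243, 0, 0), (486, 0, 0), (11, 0, 0), (19, 0, 1), (567, 5, 2), (405, 5, 3), (45, 2, 4),
  (63, 2, 5), (189, 4, 6), (135, 4, 7), (138, 3, 8), (195, 3, 9), (66, 3, 10), (51, 3, 11), (87, 1, 12), (408,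
  4, 12), (165, 1, 13), (573, 4, 13), (15, 1, 14), (22, 2, 14), (21, 1, 15), (17, 2, 15), (438, 4, 16), (489, 5,
  17), (624, 4, 18), (249, 5, 19), (52, 2, 20), (5, 0, 21), (68, 2, 22), (7, 0, 23), (306, 3, 24), (519, 5, 24),
  (531, 3, 26), (300, 5, 26), (35, 0, 28), (136, 3, 28), (58, 0, 30), (191, 3, 30), (262, 2, 32), (630, 5, 32),
  (497, 2, 34), (450, 5, 34), (146, 3, 36), (406, 4, 37), (208, 3, 38), (569, 4, 39), (245, 0, 40), (586, 5,
  40), (171, 4, 41), (487, 0, 42), (416, 5, 42), (99, 4, 43)]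

theorem chk1 : ((List.range 36).all fun r => (cv r).any fun x => decide (x < 0)) = true := by decide +kernel

theorem chk2 : (List.range 36).map (fun r => cv (36 + r)) = PR := by decide +kernel

theorem chk3 : ((List.range 729).all fun m =>
    decide ((PR.filter fun v => decide (dt (dg m) v % 3 = 0)).length ≠ 20) || TB.any fun x => decide (x.1 = m)) = true := by
  decide +kernel

theorem chk4 : ((List.range 54).all fun n => decide (n < 4) ||
    (decide ((TB.getD n (0, 0, 0)).2.2 < n) && (decide ((TB.getD n (0, 0, 0)).2.1 < 6) &&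
      (List.range 6).all fun i => decide (((dg (TB.getD (TB.getD n (0, 0, 0)).2.2 (0, 0, 0)).1).getD i 0 -
        ((dg (TB.getD n (0, 0, 0)).1).getD i 0 - chevE6.cartan (TB.getD n (0, 0, 0)).2.1 (chevE6.simple i) *
          (dg (TB.getD n (0, 0, 0)).1).getD (TB.getD n (0, 0, 0)).2.1 0)) % 3 = 0)))) = true := by
  decide +kernel

theorem chk5 : ∀ n < 4, (TB.getD n (0, 0, 0)).1 ∈ [1, 2, 243, 486] := by decide +kernel

theorem chk6 : PR.Nodup := by decide +kernel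

theorem chk7 : (PR.all fun v => decide (v.getD 0 0 ≤ 1) && decide (v.getD 5 0 ≤ 1)) = true := by decide +kernel

theorem dt_nil (y : List ℤ) : dt [] y = 0 := by cases y <;> rfl

theorem dt_nil' (w : List ℤ) : dt w [] = 0 := by cases w <;> rfl

theorem dt_cons (w : List ℤ) (b : ℤ) (y : List ℤ) : dt w (b :: y) = w.getD 0 0 * b + dt w.tail y := by
  cases w with
  | nil => rw [dt_nil, List.tail_nil, dt_nil]; simp
  | cons a w => rfl

theorem getD_tail (w : List ℤ) (i : ℕ) : w.tail.getD i 0 = w.getD (i + 1) 0 := by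
  cases w <;> rfl

theorem dt_cv (w : List ℤ) (r : ℕ) : dt w (cv r) = ∑ i : Fin 6, w.getD i 0 * vec chevE6 6 r i := by
  have h1 : cv r = [rt chevE6 r 0, rt chevE6 r 1, rt chevE6 r 2, rt chevE6 r 3, rt chevE6 r 4, rt chevE6 r 5] := rfl
  rw [h1]
  simp only [dt_cons, dt_nil', getD_tail, Fin.sum_univ_six, vec_apply]
  simp only [Fin.val_zero, Fin.val_one, Fin.val_two, Nat.reduceAdd, add_zero]
  norm_num [Fin.ext_iff]
  ring

section

variable {M : CoxeterMatrix (Fin 6)} (hp : IsType chevE6 6 M) {W : Type*} [Group W] (cs : CoxeterSystem M W)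

/-- the functional with the digits of `m` -/
def HasCode (f : (Fin 6 → ℤ) →+ ZMod 3) (m : ℕ) : Prop := ∀ i : Fin 6, f (sr i) = (((dg m).getD i 0 : ℤ) : ZMod 3)

theorem f_eq {f : (Fin 6 → ℤ) →+ ZMod 3} {m : ℕ} (h : HasCode f m) (x : Fin 6 → ℤ) :
    f x = ((∑ i : Fin 6, (dg m).getD i 0 * x i : ℤ) : ZMod 3) := by
  conv_lhs => rw [eq_sum_sr x, map_sum]
  rw [Int.cast_sum]
  refine Finset.sum_congr rfl fun i _ => ?_
  rw [map_zsmul, h i, Int.cast_mul, zsmul_eq_mul, mul_comm]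

theorem f_vec {f : (Fin 6 → ℤ) →+ ZMod 3} {m : ℕ} (h : HasCode f m) (r : ℕ) :
    f (vec chevE6 6 r) = 0 ↔ dt (dg m) (cv r) % 3 = 0 := by
  rw [f_eq h, dt_cv, ZMod.intCast_zmod_eq_zero_iff_dvd]
  exact Int.dvd_iff_emod_eq_zero

theorem dg_getD (m : ℕ) (i : Fin 6) : (dg m).getD i 0 = ((m / 3 ^ (i : ℕ) % 3 : ℕ) : ℤ) := by
  unfold dg
  fin_cases i <;> rfl

theorem exists_code (f : (Fin 6 → ℤ) →+ ZMod 3) : ∃ m < 729, HasCode f m := by
  obtain ⟨a, ha⟩ : ∃ a : Fin 6 → ℕ, ∀ i, a i = (f (sr i)).val := ⟨_, fun _ => rfl⟩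
  have hlt : ∀ i, a i < 3 := fun i => by rw [ha]; exact ZMod.val_lt _
  have h0 := hlt 0
  have h1 := hlt 1
  have h2 := hlt 2
  have h3 := hlt 3
  have h4 := hlt 4
  have h5 := hlt 5
  refine ⟨a 0 + 3 * a 1 + 9 * a 2 + 27 * a 3 + 81 * a 4 + 243 * a 5, by omega, fun i => ?_⟩
  have key : (a 0 + 3 * a 1 + 9 * a 2 + 27 * a 3 + 81 * a 4 + 243 * a 5) / 3 ^ (i : ℕ) % 3 = a i := by
    fin_cases i
    · show (a 0 + 3 * a 1 + 9 * a 2 + 27 * a 3 + 81 * a 4 + 243 * a 5) / 1 % 3 = a 0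
      omega
    · show (a 0 + 3 * a 1 + 9 * a 2 + 27 * a 3 + 81 * a 4 + 243 * a 5) / 3 % 3 = a 1
      omega
    · show (a 0 + 3 * a 1 + 9 * a 2 + 27 * a 3 + 81 * a 4 + 243 * a 5) / 9 % 3 = a 2
      omega
    · show (a 0 + 3 * a 1 + 9 * a 2 + 27 * a 3 + 81 * a 4 + 243 * a 5) / 27 % 3 = a 3
      omega
    · show (a 0 + 3 * a 1 + 9 * a 2 + 27 * a 3 + 81 * a 4 + 243 * a 5) / 81 % 3 = a 4
      omega
    · show (a 0 + 3 * a 1 + 9 * a 2 + 27 * a 3 + 81 * a 4 + 243 * a 5) / 243 % 3 = a 5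
      omega
  rw [dg_getD, key, ha, Int.cast_natCast, ZMod.natCast_zmod_val]

theorem cv_inj {r s : ℕ} (hr : r < 36) (hs : s < 36) (e : vec chevE6 6 (36 + r) = vec chevE6 6 (36 + s)) : r = s := by
  have h1 : ((List.range 36).map fun r => cv (36 + r)).Nodup := by rw [chk2]; exact chk6
  refine List.inj_on_of_nodup_map h1 (List.mem_range.2 hr) (List.mem_range.2 hs) ?_
  refine List.map_congr_left fun i hi => ?_
  have h2 := congrFun e ⟨i, List.mem_range.1 hi⟩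
  rwa [vec_apply, vec_apply] at h2

theorem mem_PR {r : ℕ} (hr : r < 36) : cv (36 + r) ∈ PR := by
  rw [← chk2]
  exact List.mem_map.2 ⟨r, List.mem_range.2 hr, rfl⟩

theorem PR_nonneg : (PR.all fun v => v.all fun x => decide (0 ≤ x)) = true := by decide +kernel

theorem vec_nonneg {r : ℕ} (hr : r < 36) : 0 ≤ vec chevE6 6 (36 + r) := by
  intro i
  have h1 := List.all_eq_true.1 (List.all_eq_true.1 PR_nonneg _ (mem_PR hr)) (rt chevE6 (36 + r) i)
    (List.mem_map.2 ⟨i, List.mem_range.2 i.2, rfl⟩)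
  rw [vec_apply]
  exact of_decide_eq_true h1

/-- the positive roots are `vec (36 + r)`, `r < 36` -/
theorem pos_iff (a : Fin 6 → ℤ) : (IsRoot cs hp.isCartan a ∧ 0 ≤ a) ↔ ∃ r < 36, vec chevE6 6 (36 + r) = a := by
  constructor
  · rintro ⟨ha, h0⟩
    obtain ⟨r, hr, rfl⟩ := (isRoot_iff hp cs a).1 ha
    have hr' : r < 72 := hr
    rcases Nat.lt_or_ge r 36 with h | h
    · exfalso
      have h1 := List.all_eq_true.1 chk1 r (List.mem_range.2 h)
      rw [List.any_eq_true] at h1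
      obtain ⟨x, hx, hx0⟩ := h1
      unfold cv at hx
      rw [List.mem_map] at hx
      obtain ⟨i, hi, rfl⟩ := hx
      rw [List.mem_range] at hi
      have h3 := h0 ⟨i, hi⟩
      rw [vec_apply] at h3
      have h4 := of_decide_eq_true hx0
      simp only [Pi.zero_apply] at h3
      omega
    · exact ⟨r - 36, by omega, by rw [Nat.add_sub_cancel' h]⟩
  · rintro ⟨r, hr, rfl⟩
    exact ⟨(isRoot_iff hp cs _).2 ⟨36 + r, by show 36 + r < 72; omega, rfl⟩, vec_nonneg hr⟩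

theorem ncard_psi {f : (Fin 6 → ℤ) →+ ZMod 3} {m : ℕ} (h : HasCode f m) :
    (psi cs hp.isCartan f).ncard = (PR.filter fun v => decide (dt (dg m) v % 3 = 0)).length := by
  classical
  set L := (List.range 36).filter (fun r => decide (dt (dg m) (cv (36 + r)) % 3 = 0)) with hL
  have h1 : psi cs hp.isCartan f = ((L.toFinset.image fun r => vec chevE6 6 (36 + r) : Finset (Fin 6 → ℤ)) :
      Set (Fin 6 → ℤ)) := by
    ext a
    rw [Finset.mem_coe, Finset.mem_image]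
    constructor
    · rintro ⟨ha, h0, hf⟩
      obtain ⟨r, hr, rfl⟩ := (pos_iff hp cs a).1 ⟨ha, h0⟩
      exact ⟨r, List.mem_toFinset.2 (List.mem_filter.2 ⟨List.mem_range.2 hr, decide_eq_true ((f_vec h _).1 hf)⟩), rfl⟩
    · rintro ⟨r, hr, rfl⟩
      obtain ⟨h2, h3⟩ := List.mem_filter.1 (List.mem_toFinset.1 hr)
      obtain ⟨h4, h5⟩ := (pos_iff hp cs _).2 ⟨r, List.mem_range.1 h2, rfl⟩
      exact ⟨h4, h5, (f_vec h _).2 (of_decide_eq_true h3)⟩
  have hnd : L.Nodup := List.nodup_range.filter _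
  rw [h1, Set.ncard_coe_finset, Finset.card_image_of_injOn, List.toFinset_card_of_nodup hnd, ← chk2, List.filter_map,
    List.length_map]
  · rfl
  · intro r hr s hs e
    have hr' := List.mem_range.1 (List.mem_filter.1 (List.mem_toFinset.1 (Finset.mem_coe.1 hr))).1
    have hs' := List.mem_range.1 (List.mem_filter.1 (List.mem_toFinset.1 (Finset.mem_coe.1 hs))).1
    exact cv_inj hr' hs' e

theorem pairing_sr6 (A : Fin 6 → Fin 6 → ℤ) (j i : Fin 6) : pairing A j (sr i) = A j i := by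
  unfold pairing
  rw [Finset.sum_eq_single i]
  · rw [sr_self, mul_one]
  · intro b _ hb
    rw [sr_ne hb, mul_zero]
  · intro h; exact absurd (Finset.mem_univ i) h

/-- one reflection -/
theorem step {f : (Fin 6 → ℤ) →+ ZMod 3} {m m' : ℕ} (h : HasCode f m) (j : Fin 6)
    (hm : ∀ i : Fin 6, ((dg m').getD i 0 - ((dg m).getD i 0 - chevE6.cartan j (chevE6.simple i) *
      (dg m).getD j 0)) % 3 = 0) :
    HasCode (f.comp (rep cs hp.isCartan (cs.simple j)).toAddMonoidHom) m' := by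
  intro i
  show f (rep cs hp.isCartan (cs.simple j) (sr i)) = _
  rw [rep_simple_eq, map_sub, map_zsmul, h i, h j, pairing_sr6, zsmul_eq_mul, ← Int.cast_mul, ← Int.cast_sub]
  have h1 : ((3 : ℕ) : ℤ) ∣ ((dg m').getD i 0 - ((dg m).getD i 0 - chevE6.cartan j (chevE6.simple i) *
      (dg m).getD j 0)) := Int.dvd_of_emod_eq_zero (hm i)
  exact (ZMod.intCast_eq_intCast_iff_dvd_sub _ _ 3).2 h1

/-- **The functionals with 20 positive roots in the kernel.** -/
theorem exists_base {f : (Fin 6 → ℤ) →+ ZMod 3} (h20 : (psi cs hp.isCartan f).ncard = 20) :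
    ∃ v : W, ∃ b ∈ [1, 2, 243, 486], HasCode (f.comp (rep cs hp.isCartan v).toAddMonoidHom) b := by
  have key : ∀ n < 54, ∀ f : (Fin 6 → ℤ) →+ ZMod 3, HasCode f (TB.getD n (0, 0, 0)).1 →
      ∃ v : W, ∃ b ∈ [1, 2, 243, 486], HasCode (f.comp (rep cs hp.isCartan v).toAddMonoidHom) b := by
    intro n
    induction n using Nat.strong_induction_on with
    | _ n ih =>
    intro hn f hf
    by_cases h4 : n < 4
    · refine ⟨1, _, chk5 n h4, ?_⟩
      intro i
      show f (rep cs hp.isCartan 1 (sr i)) = _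
      rw [map_one]
      exact hf i
    · have h1 := List.all_eq_true.1 chk4 n (List.mem_range.2 hn)
      rw [Bool.or_eq_true, Bool.and_eq_true, Bool.and_eq_true] at h1
      rcases h1 with h1 | ⟨h1, h2, h3⟩
      · exact absurd (of_decide_eq_true h1) h4
      · have h1 := of_decide_eq_true h1
        have h2 := of_decide_eq_true h2
        have h5 : ∀ i : Fin 6, ((dg (TB.getD (TB.getD n (0, 0, 0)).2.2 (0, 0, 0)).1).getD i 0 -
            ((dg (TB.getD n (0, 0, 0)).1).getD i 0 - chevE6.cartan (TB.getD n (0, 0, 0)).2.1 (chevE6.simple i) *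
              (dg (TB.getD n (0, 0, 0)).1).getD (TB.getD n (0, 0, 0)).2.1 0)) % 3 = 0 := fun i =>
          of_decide_eq_true (List.all_eq_true.1 h3 i (List.mem_range.2 i.2))
        obtain ⟨v, b, hb, hv⟩ := ih _ h1 (h1.trans hn) _ (step hp cs hf ⟨(TB.getD n (0, 0, 0)).2.1, h2⟩ h5)
        refine ⟨cs.simple ⟨(TB.getD n (0, 0, 0)).2.1, h2⟩ * v, b, hb, fun i => ?_⟩
        rw [← hv i]
        show f (rep cs hp.isCartan _ (sr i)) = f (rep cs hp.isCartan _ (rep cs hp.isCartan v (sr i)))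
        rw [rep_mul_apply]
  obtain ⟨m, hm, hc⟩ := exists_code f
  rw [ncard_psi hp cs hc] at h20
  have h1 := List.all_eq_true.1 chk3 m (List.mem_range.2 hm)
  rw [Bool.or_eq_true] at h1
  rcases h1 with h1 | h1
  · exact absurd h20 (of_decide_eq_true h1)
  · rw [List.any_eq_true] at h1
    obtain ⟨x, hx, hxm⟩ := h1
    have hxm := of_decide_eq_true hxm
    obtain ⟨n, hn, rfl⟩ := List.mem_iff_getElem.1 hx
    have hlen : TB.length = 54 := rfl
    refine key n (by rw [← hlen]; exact hn) f ?_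
    have h2 : TB.getD n (0, 0, 0) = TB[n] := (List.getElem_eq_getD _).symm
    rw [h2, hxm]
    exact hc

/-- the four functionals -/
theorem base_cases {f : (Fin 6 → ℤ) →+ ZMod 3} {b : ℕ} (hb : b ∈ [1, 2, 243, 486]) (h : HasCode f b) :
    ∃ (i0 : Fin 6) (c : ZMod 3), c ≠ 0 ∧ (i0 = 0 ∨ i0 = 5) ∧ ∀ x, f x = c * ((x i0 : ℤ) : ZMod 3) := by
  have h1 := f_eq h
  simp only [List.mem_cons, List.not_mem_nil, or_false] at hb
  rcases hb with rfl | rfl | rfl | rfl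
  · refine ⟨0, 1, by decide, Or.inl rfl, fun x => ?_⟩
    rw [h1, Fin.sum_univ_six]
    have h2 : ∀ i : Fin 6, (dg 1).getD i 0 = ![1, 0, 0, 0, 0, 0] i := by decide +kernel
    rw [h2, h2, h2, h2, h2, h2]
    simp
  · refine ⟨0, 2, by decide, Or.inl rfl, fun x => ?_⟩
    rw [h1, Fin.sum_univ_six]
    have h2 : ∀ i : Fin 6, (dg 2).getD i 0 = ![2, 0, 0, 0, 0, 0] i := by decide +kernel
    rw [h2, h2, h2, h2, h2, h2]
    simp
  · refine ⟨5, 1, by decide, Or.inr rfl, fun x => ?_⟩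
    rw [h1, Fin.sum_univ_six]
    have h2 : ∀ i : Fin 6, (dg 243).getD i 0 = ![0, 0, 0, 0, 0, 1] i := by decide +kernel
    rw [h2, h2, h2, h2, h2, h2]
    simp
  · refine ⟨5, 2, by decide, Or.inr rfl, fun x => ?_⟩
    rw [h1, Fin.sum_univ_six]
    have h2 : ∀ i : Fin 6, (dg 486).getD i 0 = ![0, 0, 0, 0, 0, 2] i := by decide +kernel
    rw [h2, h2, h2, h2, h2, h2]
    simp

theorem f_u6_ne {f : (Fin 6 → ℤ) →+ ZMod 3} {b : ℕ} (hb : b ∈ [1, 2, 243, 486]) (h : HasCode f b) : f u6 ≠ 0 := by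
  obtain ⟨i0, c, hc, hi0, hf⟩ := base_cases hb h
  have k4 : ∀ c : ZMod 3, c ≠ 0 → c * ((4 : ℤ) : ZMod 3) ≠ 0 := by decide
  have k2 : ∀ c : ZMod 3, c ≠ 0 → c * ((2 : ℤ) : ZMod 3) ≠ 0 := by decide
  rw [hf]
  rcases hi0 with rfl | rfl
  · have h1 : u6 0 = 4 := rfl
    rw [h1]
    exact k4 c hc
  · have h1 : u6 5 = 2 := rfl
    rw [h1]
    exact k2 c hc

theorem coord_le {a : Fin 6 → ℤ} (ha : IsRoot cs hp.isCartan a) (h0 : 0 ≤ a) {i0 : Fin 6} (hi : i0 = 0 ∨ i0 = 5) :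
    a i0 ≤ 1 := by
  obtain ⟨r, hr, rfl⟩ := (pos_iff hp cs a).1 ⟨ha, h0⟩
  have h1 := List.all_eq_true.1 chk7 _ (mem_PR hr)
  rw [Bool.and_eq_true] at h1
  rw [vec_apply]
  rcases hi with rfl | rfl
  · exact of_decide_eq_true h1.1
  · exact of_decide_eq_true h1.2

theorem w_eq_one {f : (Fin 6 → ℤ) →+ ZMod 3} {b : ℕ} (hb : b ∈ [1, 2, 243, 486]) (h : HasCode f b) {w : W}
    (hw : ∀ y, f (rep cs hp.isCartan w y) = f y)
    (hpos : ∀ a, IsRoot cs hp.isCartan a → 0 ≤ a → f a = 0 → 0 ≤ rep cs hp.isCartan w a) : w = 1 := by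
  obtain ⟨i0, c, hc, hi0, hf⟩ := base_cases hb h
  refine eq_one_of_nonneg cs hp.isCartan w fun i => ?_
  change 0 ≤ rep cs hp.isCartan w (sr i)
  by_cases hi : i = i0
  · subst hi
    have hri := (isRoot_sr cs hp.isCartan i).act w
    rcases hri.pos_or_neg with h1 | h1
    · exact h1
    · exfalso
      have h2 := coord_le hp cs hri.neg (neg_nonneg.2 h1) hi0
      have h3 : rep cs hp.isCartan w (sr i) i ≤ 0 := h1 i
      have h4 := hw (sr i)
      rw [hf, hf, sr_self] at h4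
      have h5 : (((rep cs hp.isCartan w (sr i) i : ℤ)) : ZMod 3) = ((1 : ℤ) : ZMod 3) := by
        have h6 := mul_left_cancel₀ hc h4
        exact h6
      rw [ZMod.intCast_eq_intCast_iff_dvd_sub] at h5
      rw [Pi.neg_apply] at h2
      push_cast at h5
      omega
  · refine hpos _ (isRoot_sr cs hp.isCartan i) (sr_nonneg i) ?_
    rw [hf, sr_ne (Ne.symm hi)]
    simp

end

section

variable {K : Type u} [Field K] [Fintype K] {k : Type u} [Field k] [IsAlgClosed k]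

/-- **No elements of type `D₅T₁` in the simple group `E₆(4)`.** -/
theorem ncard_ne [CharP k 2] (hk : LocFin k) (hK : Fintype.card K = 4) {M : CoxeterMatrix (Fin 6)}
    (hp : IsType chevE6 6 M) (f0 : K →+* k)
    {x : ↥(chevE6.group K)} (hx : x ^ 3 = 1) {z t : ↥(chevE6.group k)} (hz : z⁻¹ * emb hp.inList f0 x * z = t)
    (ht : t ∈ TT chevE6 k) {f : (Fin 6 → ℤ) →+ ZMod 3} (hf : ∀ y, cX hp t y = 1 ↔ f y = 0) :
    (psi M.toCoxeterSystem hp.isCartan f).ncard ≠ 20 := by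
  classical
  intro h20
  have : Fact (Nat.Prime 2) := ⟨Nat.prime_two⟩
  set cs := M.toCoxeterSystem with hcs
  have hS := Cfsg.Agent.H795.Untw.setup_untw (hp := hp) hk f0 (r := 2) (e := 2) (by norm_num) (by rw [hK]; norm_num)
    invC_E6 (by norm_num) (Or.inr Nat.prime_three) (p := 2) (by norm_num)
  have hWf := finite_W hp cs
  have hN : NSys M (TT chevE6 k) (nc hp k) := nsys_of_locFin hp cs hk 2
  set φ := emb hp.inList f0 with hφ
  have hx1 : x ≠ 1 := by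
    rintro rfl
    have h1 : t = 1 := by rw [← hz, map_one]; group
    have h2 : f = 0 := by
      ext i
      refine (hf _).1 ?_
      rw [h1, cX_one]
    rw [h2] at h20
    have h3 : HasCode (0 : (Fin 6 → ℤ) →+ ZMod 3) 0 := by
      intro i
      rw [dg_getD]
      simp
    rw [ncard_psi hp cs h3] at h20
    revert h20
    decide +kernel
  let Rf : Set ((Fin 6 → ℤ) →+ ZMod 3) :=
    {f' | (psi cs hp.isCartan f').ncard ≠ 20 ∨ ∃ b ∈ [1, 2, 243, 486], HasCode f' b}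
  have hRf : Meets hp cs Rf := by
    intro f'
    by_cases h : (psi cs hp.isCartan f').ncard = 20
    · obtain ⟨v, b, hb, hv⟩ := exists_base hp cs h
      exact ⟨v, Or.inr ⟨b, hb, hv⟩⟩
    · refine ⟨1, Or.inl ?_⟩
      have h1 : f'.comp (rep cs hp.isCartan (1 : M.Group)).toAddMonoidHom = f' := by
        ext y
        show f' (rep cs hp.isCartan 1 _) = _
        rw [map_one]
        rfl
      rw [h1]
      exact h
  have hfin : Finite ↥(fixC (phi chevE6 k 2 2) (φ x)) := by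
    have := hS.fin
    exact Finite.of_injective (fun y : ↥(fixC (phi chevE6 k 2 2) (φ x)) =>
      (⟨y.1, (mem_fixC.1 y.2).1⟩ : {y : ↥(chevE6.group k) // phi chevE6 k 2 2 y = y}))
      (fun a b hab => Subtype.ext (congrArg (fun z : {y : ↥(chevE6.group k) // phi chevE6 k 2 2 y = y} => z.1) hab))
  obtain ⟨f1, hf1, -, w, hP, ⟨t1, z2, n, v, ht1, e2, e3, hn, hnt, hcX, hcv⟩, -⟩ :=
    Cfsg.Agent.H972.CS.MainTwo.bound_frame hp cs hk hS.e_pos hS.frob hS.fr invC_E6 (by norm_num) Nat.prime_three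
      (by norm_num) hRf (hS.fix x) (by rw [← map_pow, hx, map_one]) (fun h0 => hx1 (hS.inj (by rw [h0, map_one])))
      ht hz hN
  -- the number of the roots is the same
  have h20' : (psi cs hp.isCartan f1).ncard = 20 := by
    have hiff : ∀ y, f1 y = 0 ↔ f (rep cs hp.isCartan v y) = 0 := fun y => by rw [← hcX, hcv, hf]
    have hfr : {a | IsRoot cs hp.isCartan a}.Finite := RGD.finite_roots (cs := cs) (h := hp.isCartan)
    have hhalf : ∀ f' : (Fin 6 → ℤ) →+ ZMod 3,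
        {a | IsRoot cs hp.isCartan a ∧ f' a = 0}.ncard = 2 * (psi cs hp.isCartan f').ncard := by
      intro f'
      have h1 : {a | IsRoot cs hp.isCartan a ∧ f' a = 0} =
          psi cs hp.isCartan f' ∪ (fun a => -a) '' psi cs hp.isCartan f' := by
        ext a
        constructor
        · rintro ⟨ha, h0⟩
          rcases ha.pos_or_neg with h1 | h1
          · exact Or.inl ⟨ha, h1, h0⟩
          · exact Or.inr ⟨-a, ⟨ha.neg, neg_nonneg.2 h1, by rw [map_neg, h0, neg_zero]⟩, neg_neg a⟩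
        · rintro (⟨h1, h2, h3⟩ | ⟨b, ⟨h1, h2, h3⟩, rfl⟩)
          · exact ⟨h1, h3⟩
          · exact ⟨h1.neg, by rw [map_neg, h3, neg_zero]⟩
      have hfin1 : (psi cs hp.isCartan f').Finite := hfr.subset fun a ha => ha.1
      rw [h1, Set.ncard_union_eq ?_ hfin1 (hfin1.image _), Set.ncard_image_of_injective _ neg_injective, two_mul]
      rw [Set.disjoint_left]
      rintro a ⟨h1, h2, h3⟩ ⟨b, ⟨h4, h5, h6⟩, rfl⟩
      have h7 : b = 0 := le_antisymm (neg_nonneg.1 h2) h5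
      exact h4.ne_zero h7
    have h3 : {a | IsRoot cs hp.isCartan a ∧ f1 a = 0}.ncard = {a | IsRoot cs hp.isCartan a ∧ f a = 0}.ncard := by
      refine Set.ncard_congr (fun a _ => rep cs hp.isCartan v a) ?_ ?_ ?_
      · rintro a ⟨ha, h0⟩
        exact ⟨ha.act v, (hiff a).1 h0⟩
      · intro a b _ _ e
        have h4 := congrArg (rep cs hp.isCartan v⁻¹) e
        rwa [rep_inv_apply, rep_inv_apply] at h4
      · rintro b ⟨hb, h0⟩
        refine ⟨rep cs hp.isCartan v⁻¹ b, ⟨hb.act _, (hiff _).2 ?_⟩, ?_⟩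
        · rw [← rep_mul_apply, mul_inv_cancel, map_one]
          exact h0
        · rw [← rep_mul_apply, mul_inv_cancel, map_one]
          rfl
    rw [hhalf, hhalf, h20] at h3
    omega
  obtain ⟨b, hb, hcode⟩ : ∃ b ∈ [1, 2, 243, 486], HasCode f1 b := by
    rcases hf1 with h | h
    · exact absurd h20' h
    · exact h
  -- `w = 1`
  have hw1 : w = 1 := by
    refine w_eq_one hp cs hb hcode (fun y => ?_) (fun a ha h0 hfa => ?_)
    · have h1 := hP.mul y
      rw [theta_apply] at h1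
      have h2 : (2 ^ 2 : ℕ) • f1 y = f1 y := by
        rw [nsmul_eq_mul]
        have h3 : (((2 ^ 2 : ℕ)) : ZMod 3) = 1 := by decide
        rw [h3, one_mul]
      rw [h2] at h1
      exact h1
    · exact hP.pos a ha h0 hfa
  subst hw1
  have hnT : n ∈ TT chevE6 k := by
    have h1 := (rp_one (cs := cs) (hN := hN)).unique hn
    rwa [inv_one, one_mul] at h1
  obtain ⟨s', hs', e4⟩ := Cfsg.Agent.H720.TorusReal.torus_lang hp cs hS.e_pos hS.frob hS.fr invC_E6 (by norm_num)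
    (c := n⁻¹) (inv_mem hnT)
  have hσs : phi chevE6 k 2 2 s' ∈ TT chevE6 k := (hS.fr.tor s').2 hs'
  have e5 : n * s' = phi chevE6 k 2 2 s' := by rw [e4, mul_inv_cancel_left, ← e4]
  have e6 : phi chevE6 k 2 2 z2 = z2 * n := by rw [e3]; group
  have e7 : s' * t1 = t1 * s' := TT_comm hp s' hs' t1 ht1
  have e8 : phi chevE6 k 2 2 s' * s'⁻¹ = s'⁻¹ * phi chevE6 k 2 2 s' := TT_comm hp _ hσs s'⁻¹ (inv_mem hs')
  have e9 : n = s'⁻¹ * phi chevE6 k 2 2 s' := by rw [← e8, ← e5]; group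
  have h1 : phi chevE6 k 2 2 (z2 * s'⁻¹) = z2 * s'⁻¹ := by
    rw [map_mul, map_inv, e6, e9]; group
  have h2 : phi chevE6 k 2 2 ((z2 * s'⁻¹)⁻¹) = (z2 * s'⁻¹)⁻¹ := by rw [map_inv, h1]
  obtain ⟨x', hx'⟩ := hS.norm _ h2 x
  have h3 : φ x' = t1 := by
    rw [hx', e2, inv_inv]
    calc (z2 * s'⁻¹)⁻¹ * (z2 * t1 * z2⁻¹) * (z2 * s'⁻¹) = s' * t1 * s'⁻¹ := by group
      _ = t1 := by rw [e7, mul_inv_cancel_right]
  have h4 : cX hp (φ x') u6 = 1 := by
    refine cX_lam hp hk f0 (m := 3) (by rw [hK]) (x' := x') (by rw [← hφ, h3]; exact ht1) ?_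
    intro i hi
    have hi' : i < 6 := hi
    interval_cases i <;> decide +kernel
  rw [h3, hcX] at h4
  exact f_u6_ne hb hcode h4

/-- **No elements of type `D₅T₁` in the simple group `²E₆(2)`.** -/
theorem ncard_ne_tw [CharP k 2] (hk : LocFin k) (hK : Fintype.card K = 4) (f0 : K →+* k)
    {x : ↥(twistedE6 K 2)} (hx : x ^ 3 = 1) {z t : ↥(chevE6.group k)}
    (hz : z⁻¹ * Cfsg.Agent.H720.TwFr.em6 2 f0 x * z = t) (ht : t ∈ TT chevE6 k) {M : CoxeterMatrix (Fin 6)}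
    (hp : IsType chevE6 6 M) {f : (Fin 6 → ℤ) →+ ZMod 3} (hf : ∀ y, cX hp t y = 1 ↔ f y = 0) :
    (psi M.toCoxeterSystem hp.isCartan f).ncard ≠ 20 := by
  refine ncard_ne hk hK hp f0 (x := Subgroup.inclusion (Cfsg.Agent.BpExc.FamTw.Six.twisted_le_group (K := K) 2) x)
    ?_ (z := z) (t := t) hz ht hf
  rw [← map_pow, hx, map_one]

end

end Cfsg.Agent.H554.CS
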